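import Cfsg.Agent.H309.U43.Five
import Cfsg.Agent.H916.RIM.Cnt

/-!
# S4816, row `U₄(3)`: `NBall 5` and `NBall 7` (helper916; good elements of helper309)

Six good classes (orders `1, 5, 7, 7, 4, 8`); `|C(5)| = 5`; `|C(7)| = 7`, `|N(7)| = 21`.
-/

set_option autoImplicit false
set_option linter.style.haveILetI false
set_option linter.unusedSectionVars false

namespace Cfsg.Agent.H916.RIM.U43

open Subgroup Matrix Cfsg Cfsg.Agent.H80.Fpf Cfsg.Agent.H309.U43 Cfsg.Agent.H665.RIM
open Cfsg.Agent.LieClassical.HermSiegel Cfsg.Agent.LieClassical.SUBasic Cfsg.Agent.ClassicalGeometry.PSUAutBasic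

open scoped commutatorElement

universe u

variable {F : Type} [Field F] [Fintype F]

/-- an element of order 5 with centralizer of order 5 -/
theorem exists_r (hF : Fintype.card F = 3 ^ 2) : ∃ r : PSU 4 F 3, orderOf r = 5 ∧
    Nat.card (centralizer ({r} : Set (PSU 4 F 3))) = 5 := by
  haveI : Finite (PSU 4 F 3) := Quotient.finite _
  haveI : Fact (Nat.Prime 5) := ⟨Nat.prime_five⟩
  obtain ⟨R, hR5, hRc⟩ := Cfsg.Agent.H251.Small.selfcent5_u43 hF
  obtain ⟨r, hr⟩ := exists_prime_orderOf_dvd_card' (G := R) 5 (by rw [hR5])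
  have hr' : orderOf (r : PSU 4 F 3) = 5 := by rw [orderOf_coe]; exact hr
  refine ⟨r, hr', ?_⟩
  have h1 : centralizer ({(r : PSU 4 F 3)} : Set (PSU 4 F 3)) = R := by
    refine Eq.trans ?_ hRc
    have h2 : zpowers (r : PSU 4 F 3) = R := by
      apply Subgroup.eq_of_le_of_card_ge
      · rw [zpowers_le]; exact r.2
      · rw [Nat.card_zpowers, hr', hR5]
    ext x
    rw [mem_centralizer_singleton_iff, mem_centralizer_iff]
    constructor
    · intro hx g hg
      have hg' : g ∈ zpowers (r : PSU 4 F 3) := by rw [h2]; exact hg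
      obtain ⟨k, rfl⟩ := hg'
      exact ((show Commute (r : PSU 4 F 3) x from hx.symm).zpow_left k).eq
    · intro hx
      exact (hx _ r.2).symm
  rw [h1, hR5]

/-- an element of order 7 with its centralizer and normalizer -/
theorem exists_s (hF : Fintype.card F = 3 ^ 2) : ∃ s : PSU 4 F 3, orderOf s = 7 ∧
    Nat.card (centralizer ({s} : Set (PSU 4 F 3))) = 7 ∧
    Nat.card (normalizer ((zpowers s : Subgroup (PSU 4 F 3)) : Set (PSU 4 F 3))) = 3 * 7 := by
  haveI : Finite (PSU 4 F 3) := Quotient.finite _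
  haveI : Fact (Nat.Prime 7) := ⟨by norm_num⟩
  have h9 : Fintype.card F = 9 := by rw [hF]; norm_num
  have hcard : Nat.card (PSU 4 F 3) = 3265920 := Cfsg.Agent.H844.USeven.card_psu (by rw [hF]; norm_num)
  obtain ⟨s, hs⟩ := exists_prime_orderOf_dvd_card' (G := PSU 4 F 3) 7 (by rw [hcard]; norm_num)
  have h2 : Nat.card (zpowers s) = 7 := by rw [Nat.card_zpowers, hs]
  refine ⟨s, hs, ?_, ?_⟩
  · have h4 := Cfsg.Agent.H844.USeven.centralizer_eq h9 (zpowers s) h2
    have h5 : centralizer ({s} : Set (PSU 4 F 3)) = zpowers s := by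
      refine Eq.trans ?_ h4
      ext y
      rw [mem_centralizer_singleton_iff, mem_centralizer_iff]
      constructor
      · rintro hy _ ⟨j, rfl⟩
        exact ((show Commute s y from hy.symm).zpow_left j).eq
      · intro hy
        exact (hy _ (mem_zpowers _)).symm
    rw [h5, h2]
  · rw [Cfsg.Agent.H844.USeven.card_normalizer h9 (zpowers s) h2]

/-- **Six good classes.** -/
theorem list_zero (hF : Fintype.card F = 3 ^ 2) {L : Type} [Group L] [Finite L] {π : L →* PSU 4 F 3}
    (hπ : IsCover π) : GoodList π 6 := by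
  classical
  haveI : IsSimpleGroup (PSU 4 F 3) := Cfsg.Agent.S0283.result hF 4 (by norm_num) (by norm_num)
  haveI : Finite (PSU 4 F 3) := Quotient.finite _
  obtain ⟨r, hr', -⟩ := exists_r hF
  obtain ⟨s, hs, -⟩ := exists_s hF
  obtain ⟨g4, ht4, ho4⟩ := exists_four hF
  obtain ⟨g8, ht8, ho8⟩ := exists_eight hF
  -- lifts
  have hker : ∀ z : L, π z = 1 → z ^ 36 = 1 := by
    intro z hz
    obtain ⟨c, hc⟩ := multDvd hF L π hπ
    have h1 : (⟨z, hz⟩ : π.ker) ^ Nat.card π.ker = 1 := pow_card_eq_one'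
    have h2 := congrArg Subtype.val h1
    rw [hc, pow_mul]
    change z ^ Nat.card π.ker = 1 at h2
    rw [h2, one_pow]
  have liftodd : ∀ (g : PSU 4 F 3) (n : ℕ), g ^ n = 1 → 36 % n = 1 → ∃ x : L, π x = g ∧ x ^ n = 1 := by
    intro g n hg hn
    obtain ⟨x0, hx0⟩ := hπ.surj g
    refine ⟨x0 ^ 36, ?_, ?_⟩
    · rw [map_pow, hx0, pow_eq_pow_mod 36 hg, hn, pow_one]
    · rw [← pow_mul, mul_comm, pow_mul]
      exact hker _ (by rw [map_pow, hx0, hg])
  have lifttwo : ∀ (g : PSU 4 F 3), g ^ 8 = 1 → ∃ x : L, π x = g ∧ x ^ 2 ^ 5 = 1 := by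
    intro g hg
    obtain ⟨x0, hx0⟩ := hπ.surj g
    refine ⟨x0 ^ 9, ?_, ?_⟩
    · rw [map_pow, hx0, show 9 = 8 + 1 from rfl, pow_succ, hg, one_mul]
    · rw [← pow_mul, show 9 * 2 ^ 5 = 8 * 36 from rfl, pow_mul]
      exact hker _ (by rw [map_pow, hx0, hg])
  have hr5 : (r : PSU 4 F 3) ^ 5 = 1 := by rw [← hr', pow_orderOf_eq_one]
  have hs7 : s ^ 7 = 1 := by rw [← hs, pow_orderOf_eq_one]
  obtain ⟨x5, hx5, hx5'⟩ := liftodd r 5 hr5 rfl
  obtain ⟨x7, hx7, hx7'⟩ := liftodd s 7 hs7 rfl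
  obtain ⟨x4, hx4, hx4'⟩ := lifttwo (pr 4 F 3 g4) (orderOf_dvd_iff_pow_eq_one.1 (by rw [ho4]; norm_num))
  obtain ⟨x8, hx8, hx8'⟩ := lifttwo (pr 4 F 3 g8) (orderOf_dvd_iff_pow_eq_one.1 (by rw [ho8]))
  let hh : Fin 6 → L := ![1, x5, x7, x7⁻¹, x4, x8]
  have hord : ∀ i, orderOf (π (hh i)) = (![1, 5, 7, 7, 4, 8] : Fin 6 → ℕ) i := by
    intro i
    fin_cases i
    · change orderOf (π 1) = 1
      rw [map_one, orderOf_one]
    · change orderOf (π x5) = 5
      rw [hx5, hr']
    · change orderOf (π x7) = 7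
      rw [hx7, hs]
    · change orderOf (π x7⁻¹) = 7
      rw [map_inv, orderOf_inv, hx7, hs]
    · change orderOf (π x4) = 4
      rw [hx4, ho4]
    · change orderOf (π x8) = 8
      rw [hx8, ho8]
  refine ⟨hh, ?_, ?_⟩
  · intro i y hy
    fin_cases i
    · change ⁅(1 : L), y⁆ = 1
      exact commutatorElement_one_left y
    · exact good_odd hF hπ (n := 5) (by norm_num) hx5' y hy
    · exact good_odd hF hπ (n := 7) (by norm_num) hx7' y hy
    · exact good_odd hF hπ (n := 7) (by norm_num) (g := x7⁻¹) (by rw [inv_pow, hx7', inv_one]) y hy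
    · exact good_two hF hπ hx4' hx4.symm ht4 y hy
    · exact good_two hF hπ hx8' hx8.symm ht8 y hy
  · intro i j hij
    have h1 : orderOf (π (hh i)) = orderOf (π (hh j)) := by
      obtain ⟨c, hc⟩ := isConj_iff.1 hij
      rw [← hc]
      exact (orderOf_injective (MulAut.conj c).toMonoidHom (MulAut.conj c).injective _).symm
    rw [hord, hord] at h1
    have h2 : ¬ (i = 2 ∧ j = 3) := by
      rintro ⟨rfl, rfl⟩
      apply not_conj_inv hF hs
      change IsConj (π x7) (π x7⁻¹) at hij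
      rwa [map_inv, hx7] at hij
    have h3 : ¬ (i = 3 ∧ j = 2) := by
      rintro ⟨rfl, rfl⟩
      apply not_conj_inv hF hs
      change IsConj (π x7⁻¹) (π x7) at hij
      rw [map_inv, hx7] at hij
      exact hij.symm
    revert h1 h2 h3
    clear hij
    revert i j
    decide

/-- the same in every universe -/
theorem list_univ (hF : Fintype.card F = 3 ^ 2) {S : Type u} [Group S] (e : S ≃* PSU 4 F 3)
    {E : Type u} [Group E] [Finite E] {π : E →* S} (hs : Function.Surjective π) (hc : π.ker ≤ center E)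
    (hp : commutator E = ⊤) : GoodList π 6 := by
  obtain ⟨L, _, _, ⟨f⟩⟩ := Finite.exists_type_univ_nonempty_mulEquiv.{u, 0} E
  have hfin : Finite L := Finite.of_equiv _ f.toEquiv
  let π' : L →* PSU 4 F 3 := (e.toMonoidHom.comp π).comp f.symm.toMonoidHom
  have hk : ∀ x : L, x ∈ π'.ker ↔ f.symm x ∈ π.ker := by
    intro x
    rw [MonoidHom.mem_ker, MonoidHom.mem_ker]
    change e (π (f.symm x)) = 1 ↔ _
    rw [MulEquiv.map_eq_one_iff]
  have hπ' : IsCover π' := by
    refine ⟨?_, ?_, ?_⟩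
    · intro y
      obtain ⟨x, hx⟩ := hs (e.symm y)
      refine ⟨f x, ?_⟩
      change e (π (f.symm (f x))) = y
      rw [f.symm_apply_apply, hx, e.apply_symm_apply]
    · intro x hx
      rw [mem_center_iff]
      intro y
      apply f.symm.injective
      rw [map_mul, map_mul]
      exact mem_center_iff.1 (hc ((hk x).1 hx)) _
    · have h1 : (commutator E).map f.toMonoidHom = commutator L := by
        rw [commutator_def, commutator_def, Subgroup.map_commutator, ← MonoidHom.range_eq_map,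
          MonoidHom.range_eq_top.2 f.surjective]
      rw [← h1, hp, ← MonoidHom.range_eq_map]
      exact MonoidHom.range_eq_top.2 f.surjective
  obtain ⟨g, hg, hnc⟩ := list_zero hF hπ'
  refine ⟨fun i => f.symm (g i), ?_, ?_⟩
  · intro i y hy
    have h1 : f.symm ⁅g i, f y⁆ = ⁅f.symm (g i), y⁆ := by
      rw [map_commutatorElement, f.symm_apply_apply]
    rw [← h1, hg i (f y) ((hk _).2 (by rw [h1]; exact hy)), map_one]
  · intro i j hij
    apply hnc
    obtain ⟨c, hc⟩ := isConj_iff.1 hij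
    refine isConj_iff.2 ⟨e c, ?_⟩
    change e c * e (π (f.symm (g i))) * (e c)⁻¹ = e (π (f.symm (g j)))
    rw [← hc, map_mul, map_mul, map_inv]

/-- **Row `U₄(3)`, `p = 5`.** -/
theorem row_five (hF : Fintype.card F = 3 ^ 2) {S : Type u} [Group S] (e : S ≃* PSU 4 F 3) : NBall 5 S := by
  intro m _ hm
  obtain ⟨r, hr, hrc⟩ := exists_r hF
  refine nb_col (n := 6) (k := 1) (y := e.symm r) Nat.prime_five hm ?_ ?_ ?_
  · rw [pow_one, ← hr]
    exact orderOf_injective e.symm.toMonoidHom e.symm.injective r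
  · intro E _ _ π h1 h2 h3 _
    exact list_univ hF e h1 h2 h3
  · rw [H620.RIM.card_centralizer_congr e.symm r, hrc]
    norm_num

/-- **Row `U₄(3)`, `p = 7`.** -/
theorem row_seven (hF : Fintype.card F = 3 ^ 2) {S : Type u} [Group S] (e : S ≃* PSU 4 F 3) : NBall 7 S := by
  intro m _ hm
  obtain ⟨s, hs, hsc, hsn⟩ := exists_s hF
  have hcard : Nat.card (PSU 4 F 3) = 3265920 := Cfsg.Agent.H844.USeven.card_psu (by rw [hF]; norm_num)
  refine nb_dz (n := 6) (w := 3) (y := e.symm s) (by norm_num) hm ?_ ?_ ?_ ?_ ?_ (by norm_num)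
  · rw [Nat.card_congr e.toEquiv, hcard]
    norm_num
  · rw [← hs]
    exact orderOf_injective e.symm.toMonoidHom e.symm.injective s
  · rw [H620.RIM.card_centralizer_congr e.symm s, hsc]
  · rw [H620.RIM.card_normalizer_congr e.symm s, hsn]
  · intro E _ _ π h1 h2 h3 _
    exact list_univ hF e h1 h2 h3

end Cfsg.Agent.H916.RIM.U43
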